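import Cfsg.Agent.Lib.S1645Lift56.OneClass

/-!
# S0452: the setting, one class of involutions (helper2)
-/

set_option autoImplicit false
set_option linter.style.haveILetI false

universe u

namespace Cfsg.Agent.Lib.LyOrder2

open Subgroup Equiv Equiv.Perm Cfsg.Agent.Lib.S1645

/-- From the hypotheses of S0452: a cover map, fused lifts, one class of involutions and a Sylow
2-subgroup inside the centraliser. -/
theorem exists_setting {G : Type u} [Group G] [Finite G] [IsSimpleGroup G] (z : G)
    (hz : Cfsg.IsTwoCentralInvolution z)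
    (hcov : Cfsg.IsNonsplitDoubleCover (centralizer ({z} : Set G)) (alternatingGroup (Fin 11))) :
    ∃ π : ↥(centralizer ({z} : Set G)) →* Perm (Fin 11), Setting 11 z π ∧ Fused π ∧
      (∀ u : G, orderOf u = 2 → IsConj z u) ∧
      ∃ S : Sylow 2 G, z ∈ S ∧ (S : Subgroup G) ≤ centralizer ({z} : Set G) := by
  have hn : 5 ≤ 11 := by norm_num
  have hz2 := hz.1
  have hzc : zC z ∈ Subgroup.center ↥(centralizer ({z} : Set G)) :=
    Subgroup.mem_center_iff.2 fun g => Subtype.ext (mem_centralizer_singleton_iff.1 g.2)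
  obtain ⟨π, C⟩ := Cover.exists_cover hn hcov hzc (by rw [zC, Subgroup.orderOf_mk, hz2])
  have S : Setting 11 z π := ⟨inferInstance, hz2, C⟩
  obtain ⟨g, hne, hcz⟩ := exists_fused S hn
  set t := g * z * g⁻¹ with ht
  have hto : orderOf t = 2 := (MulEquiv.orderOf_eq (MulAut.conj g) z).trans hz2
  have htm : t ∈ centralizer ({z} : Set G) := mem_centralizer_singleton_iff.2 hcz.symm
  obtain ⟨k, hk1, hk⟩ := C.involution_type hn (g := ⟨t, htm⟩)
    (by rw [Subgroup.orderOf_mk]; exact hto) (fun e => hne (congrArg Subtype.val e))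
  have hle := Finset.card_le_univ (π ⟨t, htm⟩).support
  rw [← sum_cycleType, hk, Multiset.sum_replicate, smul_eq_mul, Fintype.card_fin] at hle
  obtain rfl : k = 1 := by omega
  have hfus : Fused π := by
    rintro s ⟨-, hs, hsc⟩
    exact (isConj_iff.2 ⟨g, ht.symm⟩ : IsConj z t).trans
      ((centralizer ({z} : Set G)).subtype.map_isConj
        (C.isConj_of_type hn (m := 4) (by norm_num) (x := ⟨t, htm⟩) (y := ⟨s, hs⟩) hk hsc))
  exact ⟨π, S, hfus, fun u hu => isConj_involution hn (by norm_num) hz2 C hfus hu,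
    exists_sylow_le hn hz2 C⟩

end Cfsg.Agent.Lib.LyOrder2
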